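import Cfsg.Agent.Mrg.Omega.ML.Ex.Typ.List
import Cfsg.Agent.Mrg.Omega.ML.LieRow.Lie
import Cfsg.Agent.Mrg.Omega.EH3.Kf.InL
import Cfsg.Agent.KFacts.RgdRigid

section


/-!
# The building frame with its type

* `HasSplitT.frame` : a simple normal subgroup `K` of a finite group `H` with a split (B,N)-pair of type `M` acts on a
  thick finite building of type `M` (`Sys`), with the action of `H` (`HAct`);
* `HasRGDT.frame` : the same from a root group datum of type `M`.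
-/

set_option autoImplicit false

namespace Cfsg.Agent.Omega.ML.Ex.Typ

open Cfsg Cfsg.Agent.Tits.Core Cfsg.Agent.Tits.OfBN Cfsg.Agent.Schreier.BNSch Cfsg.Agent.FixBN
  Cfsg.Agent.Omega.ML.LieRow

universe u

/-- the building frame of `K` in `H`, of type `M` -/
structure Frame {H : Type u} [Group H] (K : Subgroup H) {I : Type*} (M : CoxeterMatrix I) where
  W : Type u
  gW : Group W
  cs : CoxeterSystem M W
  C : Type u
  act : MulAction K C
  Δ : Bldg cs C
  S : Sys Δ K 2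
  A : HAct Δ K
  thick : Δ.Thick
  finC : Finite C
  neC : Nonempty C
  finW : Finite W

/-- **The building frame of a simple normal subgroup with a split (B,N)-pair of type `M`.** -/
theorem HasSplitT.frame {H : Type u} [Group H] [Finite H] {K : Subgroup H} (hK : K.Normal)
    {I : Type*} [Nonempty I] {M : CoxeterMatrix I} (h : HasSplitT 2 M K) : Nonempty (Frame K M) := by
  have : Fact (Nat.Prime 2) := ⟨Nat.prime_two⟩
  obtain ⟨P, U, e, hP, hN, cs, hcs⟩ := h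
  have hI : Finite I := OfBN.finite_I e
  have S := OfBN.sys e cs hcs hP
  have hth := thick P e cs hcs
  obtain ⟨A⟩ := exists_hact S hth (fun τ => UGT.U2.FOne.exists_mv hP e cs hcs τ)
  exact ⟨⟨WP P, inferInstance, cs, K ⧸ P.B, inferInstance, _, S, A, hth, inferInstance,
    ⟨QuotientGroup.mk 1⟩, inferInstance⟩⟩

/-- **The building frame from a root group datum of type `M`.** -/
theorem HasRGDT.frame {H : Type u} [Group H] [Finite H] {K : Subgroup H} (hK : K.Normal) (hs : IsSimpleGroup K)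
    {l : ℕ} (hl : 0 < l) {M : CoxeterMatrix (Fin l)} (h : HasRGDT 2 M K) : Nonempty (Frame K M) := by
  have : Nonempty (Fin l) := ⟨⟨0, hl⟩⟩
  exact (h.hasSplitT Nat.prime_two hl).frame hK

end Cfsg.Agent.Omega.ML.Ex.Typ

end

section


/-!
# The building frame of a root group datum

* `frameR` : `R : RGD cs h 2 Tor n X` in `K`, `K ⊴ H`, generation: a building frame of type `M` and a chamber `c0` with
  `S.U c0 = ⟨X x : x > 0⟩` and `tp Δ P c0 = {i | X (-α_i) ≤ P}` for every overgroup `P` of `S.U c0`;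
* `frameP` : the same with `|{y : δ c y = s_i}| ≤ |X (α_i)|` for all chambers `c`;
* `exists_syl` : the datum can be conjugated in `K` such that `⟨X x : x > 0⟩ = T ⊓ K`.
-/

set_option autoImplicit false
set_option linter.unusedSectionVars false

namespace Cfsg.Agent.Omega.ML.Ex.Typ

open Subgroup CoxeterSystem Cfsg.Agent.ChevalleyStructure.CoxeterGeom Cfsg.Agent.Tits.Roots Cfsg.Agent.Tits.Core
  Cfsg.Agent.Tits.RootComb Cfsg.Agent.Nodes.Comb Cfsg.Agent.Nodes.Reps Cfsg.Agent.Nodes.BNOf Cfsg.Agent.FixBN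
  Cfsg.Agent.Omega.ML.LieRow Cfsg.Agent.Tits.OfBN Cfsg.Agent.LieExceptional.BNPairCore

universe u

variable {I W : Type*} [Fintype I] [DecidableEq I] [Group W] {M : CoxeterMatrix I}
  {cs : CoxeterSystem M W} {A : I → I → ℤ} {h : IsCartan M A}

section

variable {Y : Type*} [Group Y] {p : ℕ} {Tor : Subgroup Y} {n : I → Y} {X : (I → ℤ) → Subgroup Y}

/-- `X (-α_i)` is in an overgroup of `U` iff the overgroup meets `B n_i B`. -/
theorem neg_le_iff [Finite W] (R : RGD cs h p Tor n X) {P : Subgroup Y} (hP : RGD.Sup X (RGD.Pos cs h) ≤ P) (i : I) :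
    X (-sr i) ≤ P ↔ ∃ g ∈ P, ∃ b ∈ RGD.B cs h Tor X, ∃ b' ∈ RGD.B cs h Tor X, g = b * n i * b' := by
  constructor
  · intro h1
    obtain ⟨x, hx, hxB⟩ := SetLike.not_le_iff_exists.1 (R.not_neg_le_B i)
    have hx1 : x ≠ 1 := by
      rintro rfl
      exact hxB (one_mem _)
    obtain ⟨a, ha, t, ht, b, hb, e⟩ := R.rk1 i x hx hx1
    exact ⟨x, h1 hx, a * t, mul_mem (RGD.X_le_B (isRoot_sr cs h i) (sr_nonneg i) ha) (RGD.T_le_B ht), b,
      RGD.X_le_B (isRoot_sr cs h i) (sr_nonneg i) hb, e⟩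
  · rintro ⟨g, hg, b, hb, b', hb', rfl⟩
    obtain ⟨t, ht, u, hu, e⟩ := (R.mem_B).1 (inv_mem hb)
    obtain ⟨t', ht', u', hu', e'⟩ := (R.mem_B).1 hb'
    have hb1 : b = u⁻¹ * t⁻¹ := by rw [← inv_inv b, e, mul_inv_rev]
    -- `m = t⁻¹ n_i t' ∈ P`
    have hm : t⁻¹ * n i * t' ∈ P := by
      have h1 := mul_mem (mul_mem (hP hu) hg) (inv_mem (hP hu'))
      have h2 : u * (b * n i * b') * u'⁻¹ = t⁻¹ * n i * t' := by rw [hb1, e']; group
      rwa [h2] at h1
    have hrp : Rp cs R.nsys (cs.simple i) (t⁻¹ * n i * t') := by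
      have h1 := ((rp_of_mem (cs := cs) (hN := R.nsys) (inv_mem ht)).mul (rp_simple cs R.nsys i)).mul
        (rp_of_mem (cs := cs) (hN := R.nsys) ht')
      rwa [one_mul, mul_one] at h1
    intro x hx
    have h1 : (t⁻¹ * n i * t')⁻¹ * x * (t⁻¹ * n i * t') ∈ X (sr i) := by
      have := R.conj_mem' hrp (isRoot_sr cs h i).neg hx
      rwa [inv_simple, map_neg, rep_simple_sr, neg_neg] at this
    have h2 := hP (RGD.le_Sup (S := RGD.Pos cs h) ⟨isRoot_sr cs h i, sr_nonneg i⟩ h1)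
    have h3 := mul_mem (mul_mem hm h2) (inv_mem hm)
    have h4 : (t⁻¹ * n i * t') * ((t⁻¹ * n i * t')⁻¹ * x * (t⁻¹ * n i * t')) * (t⁻¹ * n i * t')⁻¹ = x := by group
    rwa [h4] at h3

/-- the chambers of the `i`-panel -/
theorem exists_u [Finite W] (R : RGD cs h p Tor n X) {i : I} {b : Y} (hb : b ∈ RGD.B cs h Tor X) :
    ∃ u ∈ X (sr i), ∃ b' ∈ RGD.B cs h Tor X, b * n i = u * n i * b' := by
  obtain ⟨v, hv, u, hu, t, ht, rfl⟩ := R.mem_B' i hb
  refine ⟨u, hu, (n i)⁻¹ * (u⁻¹ * v * u * t) * n i, ?_, by group⟩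
  have h1 : u⁻¹ * v * u ∈ RGD.Sup X (RGD.PosNe cs h i) := by
    have h2 := (Subgroup.mem_normalizer_iff.1 (R.X_le_normalizer_V i (inv_mem hu)) v).1 hv
    rwa [inv_inv] at h2
  have h2 : (n i)⁻¹ * (u⁻¹ * v * u) * n i ∈ RGD.Sup X (RGD.PosNe cs h i) := by
    rw [← R.cj_n_V i] at h1
    exact mem_cj.1 h1
  have h3 : (n i)⁻¹ * t * n i ∈ Tor := by
    have h4 := mem_normalizer_iff_cj.1 ((rp_simple cs R.nsys i).inv).mem_normalizer
    have h5 : (n i)⁻¹ * t * (n i)⁻¹⁻¹ ∈ cj (n i)⁻¹ Tor := conj_mem_cj.2 ht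
    rwa [h4, inv_inv] at h5
  have h4 : (n i)⁻¹ * (u⁻¹ * v * u * t) * n i = ((n i)⁻¹ * (u⁻¹ * v * u) * n i) * ((n i)⁻¹ * t * n i) := by group
  have h5 : RGD.Sup X (RGD.PosNe cs h i) ≤ RGD.Sup X (RGD.Pos cs h) := RGD.Sup_mono fun z hz => ⟨hz.1, hz.2.1⟩
  rw [h4]
  exact mul_mem (RGD.U_le_B (h5 h2)) (RGD.T_le_B h3)

end

/-- **The building frame of a root group datum**, with the orders of the panels. -/
theorem frameP [Finite W] [Nonempty I] {H : Type u} [Group H] [Finite H] {K : Subgroup H} (hK : K.Normal)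
    [IsSimpleGroup K] {Tor : Subgroup K} {n : I → K} {X : (I → ℤ) → Subgroup K} (R : RGD cs h 2 Tor n X)
    (hG1 : Nodes.RGDLib.G1 cs h X = ⊤) :
    ∃ (F : Frame K M), letI := F.gW; letI := F.act; ∃ c0 : F.C, F.S.U c0 = RGD.Sup X (RGD.Pos cs h) ∧
      (∀ P : Subgroup K, RGD.Sup X (RGD.Pos cs h) ≤ P → ∀ i, i ∈ tp F.Δ P c0 ↔ X (-sr i) ≤ P) ∧
      ∀ i c, Nat.card {y : F.C // F.Δ.δ c y = F.cs.simple i} ≤ Nat.card (X (sr i)) := by
  have : Fact (Nat.Prime 2) := ⟨Nat.prime_two⟩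
  have hgen : RGD.B cs h Tor X ⊔ NN cs R.nsys = ⊤ := by
    rw [eq_top_iff, ← hG1]
    exact Nodes.RGDLib.rgd_G1_le R
  obtain ⟨i₀⟩ := (inferInstance : Nonempty I)
  have hne : (R.bnPair hgen).S.Nonempty := ⟨n i₀, i₀, rfl⟩
  have hP := SplitRGD.split_of_rgd Nat.prime_two R hgen
    (Cfsg.Agent.Tits.OfBN.normalCore_eq_bot (R.bnPair hgen) hne)
  obtain ⟨e, hen, hN, cs', hcs⟩ : ∃ e : I ≃ (R.bnPair hgen).S, (∀ i, (e i : K) = n i) ∧ BNType (R.bnPair hgen) M e :=
    ⟨Equiv.ofInjective n R.n_injective, fun _ => rfl, bnType R hgen⟩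
  have hth := thick (R.bnPair hgen) e cs' hcs
  obtain ⟨A'⟩ := exists_hact (OfBN.sys e cs' hcs hP) hth (fun τ => UGT.U2.FOne.exists_mv hP e cs' hcs τ)
  refine ⟨⟨WP (R.bnPair hgen), inferInstance, cs', K ⧸ (R.bnPair hgen).B, inferInstance, _,
    OfBN.sys e cs' hcs hP, A', hth, inferInstance, ⟨QuotientGroup.mk 1⟩, inferInstance⟩, QuotientGroup.mk 1, ?_, ?_, ?_⟩
  · ext x
    change x ∈ OfBN.UU (R.bnPair hgen) _ (QuotientGroup.mk 1) ↔ _
    rw [OfBN.mem_UU hP]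
    have h1 : (1 : K)⁻¹ * x * 1 = x := by group
    rw [h1]
  · intro P hUP i
    rw [neg_le_iff R hUP i]
    have key : ∀ g : K, (bldg (R.bnPair hgen) e cs' hcs).δ (QuotientGroup.mk 1) (g • QuotientGroup.mk 1) =
        wt (R.bnPair hgen) g := by
      intro g
      have h1 : g • (QuotientGroup.mk 1 : K ⧸ (R.bnPair hgen).B) = QuotientGroup.mk (g * 1) := rfl
      rw [h1, bldg_δ_mk, inv_one, one_mul, mul_one]
    constructor
    · rintro ⟨g, hg, hgi⟩
      refine ⟨g, hg, ?_⟩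
      have h1 : wt (R.bnPair hgen) g = cs'.simple i := (key g).symm.trans hgi
      rw [hcs] at h1
      obtain ⟨b, hb, b', hb', h2⟩ := mem_C.1 (mem_C_of_wt _ h1)
      exact ⟨b, hb, b', hb', by rw [← hen i]; exact h2⟩
    · rintro ⟨g, hg, b, hb, b', hb', e1⟩
      refine ⟨g, hg, ?_⟩
      have h1 : wt (R.bnPair hgen) g = cs'.simple i := by
        rw [hcs]
        exact wt_of_mem _ (mem_C.2 ⟨b, hb, b', hb', by rw [hen i]; exact e1⟩)
      exact (key g).trans h1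
  · intro i c
    induction c using QuotientGroup.induction_on with
    | _ g =>
    have : Finite (X (sr i)) := inferInstance
    have key : ∀ y : {y : K ⧸ (R.bnPair hgen).B // (bldg (R.bnPair hgen) e cs' hcs).δ (QuotientGroup.mk g) y =
        cs'.simple i}, ∃ u ∈ X (sr i), (y : K ⧸ (R.bnPair hgen).B) = QuotientGroup.mk (g * (u * n i)) := by
      rintro ⟨y, hy⟩
      induction y using QuotientGroup.induction_on with
      | _ a =>
      have h1 : wt (R.bnPair hgen) (g⁻¹ * a) = cs'.simple i := by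
        rw [← bldg_δ_mk (R.bnPair hgen) e cs' hcs]
        exact hy
      rw [hcs] at h1
      obtain ⟨b, hb, b', hb', h2⟩ := mem_C.1 (mem_C_of_wt _ h1)
      have h3 : g⁻¹ * a = b * n i * b' := by
        have h4 : g⁻¹ * a = b * (e i : K) * b' := h2
        rw [h4, hen i]
      obtain ⟨u, hu, b₂, hb₂, h4⟩ := exists_u R (i := i) hb
      refine ⟨u, hu, ?_⟩
      have h5 : a = g * (u * n i) * (b₂ * b') := by
        have h6 : a = g * (g⁻¹ * a) := by group
        rw [h6, h3, h4]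
        group
      change (QuotientGroup.mk a : K ⧸ (R.bnPair hgen).B) = _
      rw [h5]
      exact QuotientGroup.mk_mul_of_mem _ (mul_mem hb₂ hb')
    choose f hf1 hf2 using key
    refine Nat.card_le_card_of_injective (fun y => (⟨f y, hf1 y⟩ : X (sr i))) ?_
    intro y z hyz
    apply Subtype.ext
    rw [hf2 y, hf2 z]
    have h1 : f y = f z := congrArg Subtype.val hyz
    rw [h1]

/-- **The building frame of a root group datum.** -/
theorem frameR [Finite W] [Nonempty I] {H : Type u} [Group H] [Finite H] {K : Subgroup H} (hK : K.Normal)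
    [IsSimpleGroup K] {Tor : Subgroup K} {n : I → K} {X : (I → ℤ) → Subgroup K} (R : RGD cs h 2 Tor n X)
    (hG1 : Nodes.RGDLib.G1 cs h X = ⊤) :
    ∃ (F : Frame K M), letI := F.gW; letI := F.act; ∃ c0 : F.C, F.S.U c0 = RGD.Sup X (RGD.Pos cs h) ∧
      ∀ P : Subgroup K, RGD.Sup X (RGD.Pos cs h) ≤ P → ∀ i, i ∈ tp F.Δ P c0 ↔ X (-sr i) ≤ P := by
  obtain ⟨F, c0, h1, h2, -⟩ := frameP hK R hG1
  exact ⟨F, c0, h1, h2⟩

/-- **The datum can be conjugated such that its positive part is `T ⊓ K`.** -/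
theorem exists_syl [Finite W] {H : Type*} [Group H] [Finite H] {K : Subgroup H} (hK : K.Normal)
    {Tor : Subgroup K} {n : I → K} {X : (I → ℤ) → Subgroup K} (R : RGD cs h 2 Tor n X)
    (hG1 : Nodes.RGDLib.G1 cs h X = ⊤) {T : Subgroup H} (hT : IsPGroup 2 T) (hTi : ¬ 2 ∣ T.index) :
    ∃ g : K, RGD cs h 2 (cj g Tor) (fun i => g * n i * g⁻¹) (fun x => cj g (X x)) ∧
      Nodes.RGDLib.G1 cs h (fun x => cj g (X x)) = ⊤ ∧
      RGD.Sup (fun x => cj g (X x)) (RGD.Pos cs h) = T.subgroupOf K := by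
  have : Fact (Nat.Prime 2) := ⟨Nat.prime_two⟩
  obtain ⟨g, hg⟩ := EH3.Kf.RowOf.exists_syl R (KFacts.RgdRigid.GG_eq_top hG1) (hT.toSylow hTi)
  refine ⟨g, EH3.Kf.RowOf.rgd_cj R g, ?_, ?_⟩
  · unfold Nodes.RGDLib.G1 at hG1 ⊢
    rw [EH3.Kf.RowOf.Sup_cj, hG1]
    exact Subgroup.map_top_of_surjective _ (MulAut.conj g).surjective
  · rw [EH3.Kf.RowOf.Sup_cj]
    ext l
    rw [hg l, mem_subgroupOf]
    rfl

/-- **The building frame over `T`**: positive part `T ⊓ K`, chamber fixed by `T`, orders of the panels. -/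
theorem frameP_syl [Finite W] [Nonempty I] {H : Type u} [Group H] [Finite H] {K : Subgroup H} (hK : K.Normal)
    [IsSimpleGroup K] {Tor : Subgroup K} {n : I → K} {X : (I → ℤ) → Subgroup K} (R : RGD cs h 2 Tor n X)
    (hG1 : Nodes.RGDLib.G1 cs h X = ⊤) {T : Subgroup H} (hT : IsPGroup 2 T) (hTi : ¬ 2 ∣ T.index) :
    ∃ (g : K) (F : Frame K M), RGD cs h 2 (cj g Tor) (fun i => g * n i * g⁻¹) (fun x => cj g (X x)) ∧
      Nodes.RGDLib.G1 cs h (fun x => cj g (X x)) = ⊤ ∧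
      RGD.Sup (fun x => cj g (X x)) (RGD.Pos cs h) = T.subgroupOf K ∧
      (letI := F.gW; letI := F.act; ∃ c0 : F.C, F.S.U c0 = T.subgroupOf K ∧ (∀ t ∈ T, F.A.θ t c0 = c0) ∧
        (∀ P : Subgroup K, T.subgroupOf K ≤ P → ∀ i, i ∈ tp F.Δ P c0 ↔ cj g (X (-sr i)) ≤ P) ∧
        ∀ i c, Nat.card {y : F.C // F.Δ.δ c y = F.cs.simple i} ≤ Nat.card (X (sr i))) := by
  obtain ⟨g, R', hG', hU⟩ := exists_syl hK R hG1 hT hTi
  obtain ⟨F, c0, h1, h2, h3⟩ := frameP hK R' hG'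
  let _ := F.gW
  let _ := F.act
  have := F.finC
  have := F.finW
  have hI : Finite I := inferInstance
  refine ⟨g, F, R', hG', hU, c0, h1.trans hU, ?_, fun P hP i => h2 P (hU.le.trans hP) i, fun i c => ?_⟩
  · obtain ⟨c, hc, hUc⟩ := exists_chamber F.A F.S F.thick hT hTi
    have h3 : c = c0 := UGT.U2.FOne.U_inj F.S F.thick (hUc.trans (h1.trans hU).symm)
    rw [← h3]
    exact hc
  · refine (h3 i c).trans (le_of_eq ?_)
    exact Nat.card_congr ((X (sr i)).equivMapOfInjective (MulAut.conj g).toMonoidHom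
      (MulAut.conj g).injective).toEquiv.symm

/-- **The building frame over `T`**: positive part `T ⊓ K`, chamber fixed by `T`. -/
theorem frameR_syl [Finite W] [Nonempty I] {H : Type u} [Group H] [Finite H] {K : Subgroup H} (hK : K.Normal)
    [IsSimpleGroup K] {Tor : Subgroup K} {n : I → K} {X : (I → ℤ) → Subgroup K} (R : RGD cs h 2 Tor n X)
    (hG1 : Nodes.RGDLib.G1 cs h X = ⊤) {T : Subgroup H} (hT : IsPGroup 2 T) (hTi : ¬ 2 ∣ T.index) :
    ∃ (g : K) (F : Frame K M), RGD cs h 2 (cj g Tor) (fun i => g * n i * g⁻¹) (fun x => cj g (X x)) ∧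
      Nodes.RGDLib.G1 cs h (fun x => cj g (X x)) = ⊤ ∧
      RGD.Sup (fun x => cj g (X x)) (RGD.Pos cs h) = T.subgroupOf K ∧
      (letI := F.gW; letI := F.act; ∃ c0 : F.C, F.S.U c0 = T.subgroupOf K ∧ (∀ t ∈ T, F.A.θ t c0 = c0) ∧
        ∀ P : Subgroup K, T.subgroupOf K ≤ P → ∀ i, i ∈ tp F.Δ P c0 ↔ cj g (X (-sr i)) ≤ P) := by
  obtain ⟨g, F, R', hG', hU, c0, h1, h2, h3, -⟩ := frameP_syl hK R hG1 hT hTi
  exact ⟨g, F, R', hG', hU, c0, h1, h2, h3⟩

end Cfsg.Agent.Omega.ML.Ex.Typ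

end
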