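import Cfsg.Agent.Omega.ML.Ex.Typ.Bn
import Cfsg.Agent.Nodes.RGDLie
import Cfsg.Agent.TitsThree.KSideU

section


/-!
# The types of the groups of Lie type

* `typ_PSL`, `typ_PSp`, `typ_PSU`, `typ_PO_plus`, `typ_PO_minus`, `typ_exc`, `typ_tw` : the root group data with their
  Coxeter matrices;
* `RgdTyp p G` : `G` has a root group datum of one of the types `A_n`, `B_n`, `D_n`, `E_n`, `F_4`, `G_2`;
* **`rgdTyp_of_lie`** : every group of Lie type of characteristic `2`, other than the groups of Suzuki and Ree.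
-/

set_option autoImplicit false

namespace Cfsg.Agent.Omega.ML.Ex.Typ

open Cfsg
open CoxeterSystem Cfsg.Agent.ChevalleyStructure.CoxeterGeom Cfsg.Agent.Tits.Roots Cfsg.Agent.Tits.Core
  Cfsg.Agent.Nodes.Comb Cfsg.Agent.Nodes.Reps Cfsg.Agent.Nodes.BNOf Cfsg.Agent.FixBN
  Cfsg.Agent.Nodes.RGDLib Cfsg.Agent.Nodes.RGDChev Cfsg.Agent.LieRecognition.BNCox
  Cfsg.Agent.TitsThree

/-! ### Type `A_n` -/

theorem typ_PSL {F : Type*} [Field F] [Finite F] (n : ℕ) {p : ℕ} [Fact p.Prime] [CharP F p] :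
    HasRGDT p (cA n) (Matrix.ProjectiveSpecialLinearGroup (Fin (n + 1)) F) :=
  have : Finite (cA n).Group := Nodes.RootsA.finite_W (cA n).toCoxeterSystem (Nodes.RootsA.isCartan n)
  ⟨Nodes.RootsA.AA n, Nodes.RootsA.isCartan n, _, _, _, this, Nodes.RGDTypeA.rgd_psl _ _,
    Nodes.RGDTypeA.G1_psl_eq_top _ _⟩

theorem typ_of_PSL {p : ℕ} {G : Type*} [Group G] (hG : IsPSLChar p G) : ∃ n, 1 ≤ n ∧ HasRGDT p (cA n) G := by
  obtain ⟨F, _, _, _, n, hn, -, ⟨e⟩⟩ := hG
  have : Fact p.Prime := Nodes.RGDClass.fact_prime (F := F)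
  obtain ⟨n, rfl⟩ : ∃ k, n = k + 1 := ⟨n - 1, by omega⟩
  exact ⟨n, by omega, (typ_PSL n).of_equiv e.symm⟩

/-! ### Type `B_n` -/

section TypeC

open Cfsg.Agent.Nodes Cfsg.Agent.Nodes.WittAll Cfsg.Agent.Nodes.WittU Cfsg.Agent.Nodes.WittInst
  Cfsg.Agent.TitsThree.Siegel Cfsg.Agent.TitsThree.SiegelGen
  Cfsg.Agent.TitsThree.WittFrame Cfsg.Agent.TitsThree.WBridge Cfsg.Agent.TitsThree.WittWeyl
  Cfsg.Agent.TitsThree.FrameCN

variable {F : Type*} [Field F] {V : Type*} [AddCommGroup V] [Module F V] {H : HForm F V}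

theorem typ_C {n : ℕ} {Fr : Frame H (Fin n)} {K : Type*} [Group K] (M : Model Fr K) {p : ℕ}
    (hA : AmbT Fr p M.I) [Finite V] [Fact p.Prime] [CharP F p] {p0 : Fr.Adm} (hp0 : p0.c ≠ 0)
    (hn : 0 < n) : HasRGDT p (CoxeterMatrix.B n) K :=
  ⟨Nodes.TypeC.A n, Nodes.TypeC.isCartan n, _, _, _, Nodes.TypeC.finite_W (CoxeterMatrix.B n).toCoxeterSystem,
    rgdC_model M hA hp0 _, WittModel.G1_eq_top _ hn _⟩

theorem typ_PSU {F : Type*} [Field F] [Fintype F] {q N : ℕ} (hF : Fintype.card F = q ^ 2) (hN : 3 ≤ N) {p : ℕ}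
    [Fact p.Prime] [CharP F p] : ∃ m, (N = 2 * m ∨ N = 2 * m + 1) ∧ HasRGDT p (CoxeterMatrix.B m) (PSU N F q) := by
  obtain ⟨m, hm⟩ : ∃ m, N = 2 * m ∨ N = 2 * m + 1 := ⟨N / 2, by omega⟩
  obtain ⟨W, -⟩ := exists_wframe hF hm
  obtain ⟨p0, hp0, -⟩ := exists_adm hF W
  exact ⟨m, hm, typ_C (KInstU.model hF hN W) (AmbT.of_amb (amb_U hF W) p) hp0 (by omega)⟩

theorem typ_PSp {F : Type*} [Field F] [Finite F] {m : ℕ} (hm : 1 ≤ m) {p : ℕ}
    [Fact p.Prime] [CharP F p] : HasRGDT p (CoxeterMatrix.B m) (PSp m F) :=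
  typ_C (KInstSp.model m F) (AmbT.of_amb amb_Sp p) (p0 := SpIdent.adm 1) one_ne_zero hm

end TypeC

/-! ### Orthogonal groups -/

section Orthogonal

open QuadraticMap
open Cfsg.Agent.LieClassical Cfsg.Agent.LieClassical.OrthCore Cfsg.Agent.LieClassical.OrthTrans
open Cfsg.Agent.LieClassical.OrthSimple Cfsg.Agent.LieClassical.OrthFinite
open Cfsg.Agent.LieClassical.OrthForms
open Cfsg.Agent.TitsThree.KSideO Cfsg.Agent.TitsThree.StdData
open Cfsg.Agent.Nodes Cfsg.Agent.Nodes.WittAll Cfsg.Agent.Nodes.WittU Cfsg.Agent.Nodes.WittInst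
  Cfsg.Agent.TitsThree.Siegel Cfsg.Agent.TitsThree.SiegelGen
  Cfsg.Agent.TitsThree.WittFrame Cfsg.Agent.TitsThree.WBridge Cfsg.Agent.TitsThree.WittWeyl
  Cfsg.Agent.TitsThree.FrameCN

variable {F : Type*} [Field F] {m : ℕ}

/-- **`PΩ⁻_{2m+2}(F)`, every characteristic.** -/
theorem typ_PO_minus [Finite F] {a b : F} (hab : ∀ z₁ z₂ : F, z₁ ^ 2 + a * z₁ * z₂ + b * z₂ ^ 2 = 0 → z₁ = 0 ∧ z₂ = 0)
    (hm : 2 ≤ m) {p : ℕ} [Fact p.Prime] [CharP F p] :
    HasRGDT p (CoxeterMatrix.B m) (Cfsg.POmega F (Cfsg.quadFormMinus m F a b)) := by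
  rw [← coe_minusForm]
  have hG : Good (minusForm m F a b) := by
    apply good_of_finite (nondeg_minusForm m F a b hab)
    rw [Module.finrank_fintype_fun_eq_card, Fintype.card_sum, Fintype.card_sum, Fintype.card_fin,
      Fintype.card_fin]
    omega
  have hp : ((embMinus m F a b hab).ngt ⟨(1, 0), -nf a b (1, 0), rfl⟩).c ≠ 0 := by
    change (1 : F)⁻¹ * (-nf a b (1, 0)) ≠ 0
    simp [nf]
  have hA : AmbT (toFrame (wminus m F a b hab)) p (E (minusForm m F a b)) := by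
    by_cases h2 : (2 : F) = 0
    · have hp2 : p = 2 := by
        have h3 : CharP F 2 := CharTwo.of_one_ne_zero_of_two_eq_zero one_ne_zero h2
        exact CharP.eq F ‹CharP F p› h3
      subst hp2
      exact ambT_O _ fun g hg hg2 hb => fixp_minus a b hab h2 hm hG hg hg2 hb
    · exact AmbT.of_amb (amb_O_of_two _ h2) p
  exact typ_C (model (wminus m F a b hab) hG ⟨_, hp⟩) hA hp (by omega)

/-- **`PΩ⁺_{2(n+3)}(F)`, every characteristic.** -/
theorem typ_PO_plus [Finite F] (n : ℕ) {p : ℕ} [Fact p.Prime] [CharP F p] :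
    HasRGDT p (Nodes.TypeD.M (n + 1)) (Cfsg.POmega F (Cfsg.quadFormPlus (n + 3) F)) := by
  rw [← coe_plusForm]
  have hG : Good (plusForm (n + 3) F) := by
    apply good_of_finite (nondeg_plusForm (n + 3) F)
    rw [Module.finrank_fintype_fun_eq_card, Fintype.card_sum, Fintype.card_fin]
    omega
  exact ⟨Nodes.TypeD.A (n + 1), Nodes.TypeD.isCartan (n + 1), _, _, _,
    Nodes.TypeD.finite_W (Nodes.TypeD.M (n + 1)).toCoxeterSystem,
    rgdD_model (wplus (n + 3) F) hG (amb_plus _) (adm_plus _) _,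
    G1D_eq_top (wplus (n + 3) F) (toPOmega hG) (toPOmega_surjective hG) (adm_plus _) _⟩

end Orthogonal

/-! ### Exceptional groups -/

theorem typ_group {D : Lie.ChevalleyDatum} {l : ℕ} {M : CoxeterMatrix (Fin l)} (hp : IsType D l M) (K : Type*)
    [Field K] [Finite K] (p : ℕ) [CharP K p] : HasRGDT p M ↥(D.group K) := by
  have : Fact p.Prime := ⟨CharP.char_is_prime K p⟩
  exact ⟨_, hp.isCartan, _, _, _, finite_W hp M.toCoxeterSystem,
    rgd (K := K) hp M.toCoxeterSystem p, G1_eq_top hp _⟩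

/-- the types of the exceptional groups -/
theorem typ_of_exc {p : ℕ} {G : Type*} [Group G] (hG : IsExceptionalChevChar p G) :
    HasRGDT p CoxeterMatrix.G₂ G ∨ HasRGDT p CoxeterMatrix.F₄ G ∨ HasRGDT p CoxeterMatrix.E₆ G ∨
      HasRGDT p CoxeterMatrix.E₇ G ∨ HasRGDT p CoxeterMatrix.E₈ G := by
  obtain ⟨F, _, _, _, ⟨-, ⟨e⟩⟩ | ⟨⟨e⟩⟩ | ⟨⟨e⟩⟩ | ⟨⟨e⟩⟩ | ⟨⟨e⟩⟩⟩ := hG
  · exact Or.inl ((typ_group (by simp [IsType, typeList]) F p).of_equiv e.symm)
  · exact Or.inr (Or.inl ((typ_group (by simp [IsType, typeList]) F p).of_equiv e.symm))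
  · exact Or.inr (Or.inr (Or.inl ((typ_group (by simp [IsType, typeList]) F p).of_equiv e.symm)))
  · exact Or.inr (Or.inr (Or.inr (Or.inl ((typ_group (by simp [IsType, typeList]) F p).of_equiv e.symm))))
  · exact Or.inr (Or.inr (Or.inr (Or.inr ((typ_group (by simp [IsType, typeList]) F p).of_equiv e.symm))))

theorem typ_twE6 {K : Type*} [Field K] [Fintype K] {q : ℕ} (hq : IsPrimePow q) (hK : Fintype.card K = q ^ 2)
    (p : ℕ) [CharP K p] : HasRGDT p CoxeterMatrix.F₄ ↥(Lie.twistedE6 K q) := by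
  have : Fact p.Prime := ⟨CharP.char_is_prime K p⟩
  obtain ⟨φ, hφ, hqq⟩ := ChevalleyStructure.TwE6Basic.exists_frob hq hK
  exact ⟨_, Nodes.RGDTwE6.isCartan, _, _, _,
    Nodes.RGDFold.finite_W (hp := Nodes.RGDTwE6.hp) CoxeterMatrix.F₄.toCoxeterSystem Nodes.RGDTwE6.isCartan Nodes.RGDTwE6.foldData,
    Nodes.RGDTwE6.rgd _ hφ hqq p, Nodes.RGDTwE6.G1_eq_top _ hφ hqq⟩

theorem typ_twD4 {K : Type*} [Field K] [Fintype K] {q : ℕ} (hq : IsPrimePow q) (hK : Fintype.card K = q ^ 3)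
    (p : ℕ) [CharP K p] : HasRGDT p CoxeterMatrix.G₂ ↥(Lie.twistedD4 K q) := by
  have : Fact p.Prime := ⟨CharP.char_is_prime K p⟩
  obtain ⟨φ, hφ⟩ := ChevalleyStructure.D4Fixed.exists_frob hq hK
  exact ⟨_, Nodes.RGDTwD4.isCartan, _, _, _,
    Nodes.RGDFold.finite_W (hp := Nodes.RGDTwD4.hp) CoxeterMatrix.G₂.toCoxeterSystem Nodes.RGDTwD4.isCartan Nodes.RGDTwD4.foldData,
    Nodes.RGDTwD4.rgd _ hK hφ p, Nodes.RGDTwD4.G1_eq_top _ hK hφ⟩

/-! ### The list -/

/-- the Coxeter matrix is simply laced -/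
def Laced {I : Type*} (M : CoxeterMatrix I) : Prop := ∀ i j, M i j ≤ 3

theorem laced_cA (n : ℕ) : Laced (cA n) := by
  intro i j
  change LieRecognition.CoxClass.mA (i : ℕ) (j : ℕ) ≤ 3
  unfold LieRecognition.CoxClass.mA
  split_ifs <;> omega

theorem laced_D (n : ℕ) : Laced (Nodes.TypeD.M n) := by
  intro i j
  rw [Nodes.TypeD.M_apply]
  split_ifs <;> omega

theorem laced_E6 : Laced CoxeterMatrix.E₆ := by
  intro i j
  fin_cases i <;> fin_cases j <;> decide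

theorem laced_E7 : Laced CoxeterMatrix.E₇ := by
  intro i j
  fin_cases i <;> fin_cases j <;> decide

theorem laced_E8 : Laced CoxeterMatrix.E₈ := by
  intro i j
  fin_cases i <;> fin_cases j <;> decide

theorem laced_of_one (M : CoxeterMatrix (Fin 1)) : Laced M := by
  intro i j
  rw [Subsingleton.elim i j, M.diagonal]
  omega

/-- **The list**: root group data of the groups of Lie type in characteristic two, with the type. -/
structure ListT (G : Type*) [Group G] : Prop where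
  out : (∃ (l : ℕ) (M : CoxeterMatrix (Fin l)), 0 < l ∧ Laced M ∧ HasRGDT 2 M G) ∨
    (∃ l, 2 ≤ l ∧ HasRGDT 2 (CoxeterMatrix.B l) G) ∨ HasRGDT 2 CoxeterMatrix.F₄ G ∨ HasRGDT 2 CoxeterMatrix.G₂ G ∨
      Lie.IsoSuzuki G ∨ Lie.Iso2F4 G

theorem laced_or_B {m : ℕ} {G : Type*} [Group G] (hm : 0 < m) (h : HasRGDT 2 (CoxeterMatrix.B m) G) : ListT G := by
  rcases Nat.lt_or_ge m 2 with h1 | h1
  · obtain rfl : m = 1 := by omega
    exact ⟨Or.inl ⟨1, _, one_pos, laced_of_one _, h⟩⟩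
  · exact ⟨Or.inr (Or.inl ⟨m, h1, h⟩)⟩

/-- **The types of the groups of Lie type in characteristic two.** -/
theorem list_of_lie {G : Type*} [Group G] (hG : IsLieTypeChar 2 G) : ListT G := by
  rcases hG with h | h | h | h | h | h | h | h | h | h | h
  · obtain ⟨n, hn, h⟩ := typ_of_PSL h
    exact ⟨Or.inl ⟨n, _, hn, laced_cA n, h⟩⟩
  · obtain ⟨F, _, _, _, m, hm, -, ⟨e⟩⟩ := h
    have : Fact (Nat.Prime 2) := ⟨Nat.prime_two⟩
    exact laced_or_B (by omega) ((typ_PSp (by omega)).of_equiv e.symm)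
  · obtain ⟨F, _, _, _, n, q, hF, hn, -, ⟨e⟩⟩ := h
    have : Fact (Nat.Prime 2) := ⟨Nat.prime_two⟩
    obtain ⟨m, hm, h⟩ := typ_PSU (p := 2) hF hn
    exact laced_or_B (by omega) (h.of_equiv e.symm)
  · exfalso
    obtain ⟨F, _, _, _, m, hm, hodd, ⟨e⟩⟩ := h
    obtain ⟨k, -, hk⟩ := FiniteField.card F 2
    rw [hk] at hodd
    exact absurd hodd (by
      rw [Nat.not_odd_iff_even]
      exact (even_two).pow_of_ne_zero k.ne_zero)
  · obtain ⟨F, _, _, _, m, hm, ⟨e⟩⟩ := h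
    have : Fact (Nat.Prime 2) := ⟨Nat.prime_two⟩
    obtain ⟨n, rfl⟩ : ∃ n, m = n + 3 := ⟨m - 3, by omega⟩
    exact ⟨Or.inl ⟨_, _, by omega, laced_D _, (typ_PO_plus n).of_equiv e.symm⟩⟩
  · obtain ⟨F, _, _, _, m, a, b, hm, hab, ⟨e⟩⟩ := h
    have : Fact (Nat.Prime 2) := ⟨Nat.prime_two⟩
    exact laced_or_B (by omega) ((typ_PO_minus hab (by omega)).of_equiv e.symm)
  · rcases typ_of_exc h with h | h | h | h | h
    · exact ⟨Or.inr (Or.inr (Or.inr (Or.inl h)))⟩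
    · exact ⟨Or.inr (Or.inr (Or.inl h))⟩
    · exact ⟨Or.inl ⟨_, _, by omega, laced_E6, h⟩⟩
    · exact ⟨Or.inl ⟨_, _, by omega, laced_E7, h⟩⟩
    · exact ⟨Or.inl ⟨_, _, by omega, laced_E8, h⟩⟩
  · obtain ⟨K, _, _, _, q, hq, ⟨hK, ⟨e⟩⟩ | ⟨hK, ⟨e⟩⟩⟩ := h
    · exact ⟨Or.inr (Or.inr (Or.inl ((typ_twE6 hq hK 2).of_equiv e.symm)))⟩
    · exact ⟨Or.inr (Or.inr (Or.inr (Or.inl ((typ_twD4 hq hK 2).of_equiv e.symm))))⟩
  · exact ⟨Or.inr (Or.inr (Or.inr (Or.inr (Or.inl h.2))))⟩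
  · exact ⟨Or.inr (Or.inr (Or.inr (Or.inr (Or.inr h.2))))⟩
  · omega

end Cfsg.Agent.Omega.ML.Ex.Typ

end

section


/-!
# The order of the last root group, diagram `B_m`

* `ParT p M i r G` : a root group datum of type `M` which generates `G`, with `|X (α_i)| ≤ r`;
* `par_PSp` : `PSp_{2m}(F)`, last node: `|F|`;
* `par_PSU_even`, `par_PSU_odd` : `PSU_{2m}(q)`: `q`, `PSU_{2m+1}(q)`: `q ^ 3`.
-/

set_option autoImplicit false
set_option linter.unusedSectionVars false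

namespace Cfsg.Agent.Omega.ML.Ex.Typ

open Cfsg
open CoxeterSystem Cfsg.Agent.ChevalleyStructure.CoxeterGeom Cfsg.Agent.Tits.Roots Cfsg.Agent.Tits.Core
  Cfsg.Agent.Nodes.Comb Cfsg.Agent.Nodes.Reps Cfsg.Agent.Nodes.BNOf Cfsg.Agent.FixBN
  Cfsg.Agent.Nodes.RGDLib Cfsg.Agent.Nodes.TypeC
open Cfsg.Agent.Nodes Cfsg.Agent.Nodes.WittAll Cfsg.Agent.Nodes.WittU Cfsg.Agent.Nodes.WittInst
  Cfsg.Agent.Nodes.WittRoot Cfsg.Agent.Nodes.WittRGD
  Cfsg.Agent.TitsThree Cfsg.Agent.TitsThree.Siegel Cfsg.Agent.TitsThree.SiegelGen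
  Cfsg.Agent.TitsThree.WittFrame Cfsg.Agent.TitsThree.WBridge Cfsg.Agent.TitsThree.WittWeyl
  Cfsg.Agent.TitsThree.FrameCN

/-- `G` is generated by a root group datum of characteristic `p` and type `M` with `|X (α_i)| ≤ r` -/
def ParT (p : ℕ) {l : ℕ} (M : CoxeterMatrix (Fin l)) (i : Fin l) (r : ℕ) (G : Type*) [Group G] : Prop :=
  ∃ (A : Fin l → Fin l → ℤ) (h : IsCartan M A) (T : Subgroup G) (n : Fin l → G) (X : (Fin l → ℤ) → Subgroup G),
    Finite M.Group ∧ RGD M.toCoxeterSystem h p T n X ∧ Nodes.RGDLib.G1 M.toCoxeterSystem h X = ⊤ ∧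
      Nat.card (X (sr i)) ≤ r

theorem ParT.hasRGDT {p l : ℕ} {M : CoxeterMatrix (Fin l)} {i : Fin l} {r : ℕ} {G : Type*} [Group G]
    (hG : ParT p M i r G) : HasRGDT p M G := by
  obtain ⟨A, h, T, n, X, hW, R, hX, -⟩ := hG
  exact ⟨A, h, T, n, X, hW, R, hX⟩

theorem ParT.of_equiv {p l : ℕ} {M : CoxeterMatrix (Fin l)} {i : Fin l} {r : ℕ} {G H : Type*} [Group G] [Group H]
    (e : G ≃* H) (hG : ParT p M i r G) : ParT p M i r H := by
  obtain ⟨A, h, T, n, X, hW, R, hX, hr⟩ := hG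
  refine ⟨A, h, T.map e.toMonoidHom, fun i => e (n i), fun x => (X x).map e.toMonoidHom, hW,
    Nodes.RGDLib.rgd_map_of_injective R e.toMonoidHom e.injective, ?_, ?_⟩
  · have h1 : (Nodes.RGDLib.G1 M.toCoxeterSystem h X).map e.toMonoidHom =
        Nodes.RGDLib.G1 M.toCoxeterSystem h (fun x => (X x).map e.toMonoidHom) := by
      unfold Nodes.RGDLib.G1 RGD.Sup
      rw [Subgroup.map_iSup]
    rw [← h1, hX, Subgroup.map_top_of_surjective _ e.surjective]
  · refine le_of_eq_of_le ?_ hr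
    exact Nat.card_congr ((X (sr i)).equivMapOfInjective e.toMonoidHom e.injective).toEquiv.symm

section TypeC

variable {F : Type*} [Field F] {V : Type*} [AddCommGroup V] [Module F V] {H : HForm F V}

/-- the last root group is an image of the group of admissible pairs -/
theorem card_last {n : ℕ} (hn : 0 < n) {Fr : Frame H (Fin n)} {K : Type*} [Group K] (M : Model Fr K)
    [Finite Fr.Adm] : Nat.card (WittModel.X M (sr ⟨n - 1, by omega⟩)) ≤ Nat.card Fr.Adm := by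
  have hnx : nx (⟨n - 1, by omega⟩ : Fin n) = (⟨n - 1, by omega⟩, true) := by
    unfold nx; rw [dif_neg (by simp; omega)]
  have hmem : ∀ x ∈ WittModel.X M (sr ⟨n - 1, by omega⟩), ∃ (a : Fr.Adm) (ha : Fr.Z (⟨n - 1, by omega⟩, true) a ∈ M.I),
      M.φ ⟨_, ha⟩ = x := by
    rintro _ ⟨g, hg, rfl⟩
    obtain ⟨g, hgI⟩ := g
    have h1 : g ∈ rg Fr (sr ⟨n - 1, by omega⟩) := hg
    rw [rg_sr, hnx, PG_self] at h1
    obtain ⟨a, rfl⟩ := h1
    exact ⟨a, hgI, rfl⟩
  choose! f hf using hmem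
  refine Nat.card_le_card_of_injective (fun x : WittModel.X M (sr ⟨n - 1, by omega⟩) => f x.1) ?_
  intro x y hxy
  obtain ⟨h1, h2⟩ := hf x.1 x.2
  obtain ⟨h3, h4⟩ := hf y.1 y.2
  apply Subtype.ext
  rw [← h2, ← h4]
  congr 2
  exact congrArg _ hxy

theorem par_C {n : ℕ} {Fr : Frame H (Fin n)} {K : Type*} [Group K] (M : Model Fr K) {p : ℕ}
    (hA : AmbT Fr p M.I) [Finite V] [Fact p.Prime] [CharP F p] {p0 : Fr.Adm} (hp0 : p0.c ≠ 0)
    (hn : 0 < n) [Finite Fr.Adm] {r : ℕ} (hr : Nat.card Fr.Adm ≤ r) :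
    ParT p (CoxeterMatrix.B n) ⟨n - 1, by omega⟩ r K :=
  ⟨Nodes.TypeC.A n, Nodes.TypeC.isCartan n, _, _, _, Nodes.TypeC.finite_W (CoxeterMatrix.B n).toCoxeterSystem,
    rgdC_model M hA hp0 _, WittModel.G1_eq_top _ hn _, (card_last hn M).trans hr⟩

theorem finite_adm {n : ℕ} (Fr : Frame H (Fin n)) [Finite V] [Finite F] : Finite Fr.Adm :=
  Finite.of_injective (fun a : Fr.Adm => (a.w, a.c)) fun a b e => by
    ext
    · exact congrArg Prod.fst e
    · exact congrArg Prod.snd e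

/-- the number of admissible pairs -/
theorem card_adm_le {n : ℕ} (Fr : Frame H (Fin n)) [Finite V] [Finite F] {a b : ℕ} (hV : Nat.card Fr.V0 ≤ a)
    (hc : ∀ w : Fr.V0, Nat.card {c : F // Fr.ok w c} ≤ b) : Nat.card Fr.Adm ≤ a * b := by
  classical
  have : Fintype Fr.V0 := Fintype.ofFinite _
  let g : Fr.Adm → Σ w : Fr.V0, {c : F // Fr.ok w c} := fun x => ⟨⟨x.w, Fr.ok_mem x.ok⟩, ⟨x.c, x.ok⟩⟩
  have hg : Function.Injective g := by
    intro x y e
    have h1 : x.w = y.w := by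
      have := congrArg (fun z => (z.1 : V)) e
      exact this
    have h2 : x.c = y.c := by
      have := congrArg (fun z => (z.2.1 : F)) e
      exact this
    exact Frame.Adm.ext h1 h2
  refine (Nat.card_le_card_of_injective g hg).trans ?_
  rw [Nat.card_sigma]
  refine (Finset.sum_le_card_nsmul _ _ b fun w _ => hc w).trans ?_
  rw [Finset.card_univ, ← Nat.card_eq_fintype_card, smul_eq_mul]
  exact Nat.mul_le_mul_right b hV

end TypeC

/-- the equation `c + c ^ q = b` has at most `q` solutions -/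
theorem card_trace_le {F : Type*} [Field F] [Finite F] {q : ℕ} (hq : 2 ≤ q) (b : F) :
    Nat.card {c : F // c + c ^ q = b} ≤ q := by
  classical
  have : Fintype F := Fintype.ofFinite F
  let f : Polynomial F := Polynomial.X ^ q + (Polynomial.X - Polynomial.C b)
  have hdeg : (Polynomial.X - Polynomial.C b : Polynomial F).natDegree < q := by
    rw [Polynomial.natDegree_X_sub_C]; omega
  have hf : f.natDegree = q := by
    rw [Polynomial.natDegree_add_eq_left_of_natDegree_lt (by rwa [Polynomial.natDegree_X_pow]),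
      Polynomial.natDegree_X_pow]
  have hf0 : f ≠ 0 := by
    intro h
    rw [h, Polynomial.natDegree_zero] at hf
    omega
  have h1 : ∀ c : F, c + c ^ q = b → c ∈ f.roots.toFinset := by
    intro c hc
    rw [Multiset.mem_toFinset, Polynomial.mem_roots hf0, Polynomial.IsRoot.def]
    simp only [f, Polynomial.eval_add, Polynomial.eval_sub, Polynomial.eval_pow, Polynomial.eval_X,
      Polynomial.eval_C]
    rw [← hc]
    ring
  have h2 : Nat.card {c : F // c + c ^ q = b} ≤ Nat.card f.roots.toFinset :=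
    Nat.card_le_card_of_injective (fun c => (⟨c.1, h1 c.1 c.2⟩ : f.roots.toFinset)) fun x y e =>
      Subtype.ext (congrArg (fun z => (z.1 : F)) e)
  refine h2.trans ?_
  rw [Nat.card_eq_fintype_card, Fintype.card_coe]
  exact (Multiset.toFinset_card_le _).trans ((Polynomial.card_roots' f).trans hf.le)

section Unitary

open Cfsg.Agent.LieClassical.HermBasic Cfsg.Agent.TitsThree.KSideU

variable {F : Type*} [Field F] [Fintype F] {q N : ℕ} (hF : Fintype.card F = q ^ 2)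

include hF

theorem two_le_q : 2 ≤ q := by
  have h1 : 1 < Fintype.card F := Fintype.one_lt_card
  rw [hF] at h1
  by_contra h2
  have h3 : q = 0 ∨ q = 1 := by omega
  rcases h3 with rfl | rfl <;> simp at h1

theorem card_ok_le {m : ℕ} (W : WFrame (PU hF N) m) (w : (toFrame W).V0) :
    Nat.card {c : F // (toFrame W).ok w c} ≤ q := by
  refine (Nat.card_le_card_of_injective (β := {c : F // c + c ^ q = -hermForm N F q w w})
    (fun c => ⟨c.1, c.2.2⟩) fun x y e => Subtype.ext (congrArg (fun z => (z.1 : F)) e)).trans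
    (card_trace_le (two_le_q hF) _)

/-- **`PSU_{2m}(q)`: the last root group has order at most `q`.** -/
theorem par_PSU_even {m : ℕ} (hN : N = 2 * m) (hN3 : 3 ≤ N) {p : ℕ} [Fact p.Prime] [CharP F p] :
    ParT p (CoxeterMatrix.B m) ⟨m - 1, by omega⟩ q (PSU N F q) := by
  obtain ⟨W, hW⟩ := exists_wframe_even hF hN
  obtain ⟨p0, hp0, -⟩ := exists_adm hF W
  have := finite_adm (toFrame W)
  refine par_C (KInstU.model hF hN3 W) (AmbT.of_amb (amb_U hF W) p) hp0 (by omega) ?_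
  have h1 : Nat.card (toFrame W).V0 ≤ 1 := by
    change Nat.card W.V0 ≤ 1
    rw [hW]
    exact le_of_eq Nat.card_unique
  exact (card_adm_le (toFrame W) h1 (card_ok_le hF W)).trans (by rw [one_mul])

/-- **`PSU_{2m+1}(q)`: the last root group has order at most `q³`.** -/
theorem par_PSU_odd {m : ℕ} (hN : N = 2 * m + 1) (hm : 1 ≤ m) {p : ℕ} [Fact p.Prime] [CharP F p] :
    ParT p (CoxeterMatrix.B m) ⟨m - 1, by omega⟩ (q ^ 3) (PSU N F q) := by
  obtain ⟨W, d, -, hW⟩ := exists_wframe_odd hF hN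
  obtain ⟨p0, hp0, -⟩ := exists_adm hF W
  have := finite_adm (toFrame W)
  refine par_C (KInstU.model hF (by omega) W) (AmbT.of_amb (amb_U hF W) p) hp0 (by omega) ?_
  have h1 : Nat.card (toFrame W).V0 ≤ q ^ 2 := by
    change Nat.card W.V0 ≤ q ^ 2
    rw [hW, ← hF, ← Nat.card_eq_fintype_card]
    refine Nat.card_le_card_of_surjective (fun c : F => (⟨c • d, Submodule.smul_mem _ _ (Submodule.mem_span_singleton_self d)⟩ :
      Submodule.span F {d})) ?_
    rintro ⟨x, hx⟩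
    obtain ⟨c, rfl⟩ := Submodule.mem_span_singleton.1 hx
    exact ⟨c, rfl⟩
  exact (card_adm_le (toFrame W) h1 (card_ok_le hF W)).trans (by rw [← pow_succ])

end Unitary

/-- **`PSp_{2m}(F)`: the last root group has order at most `|F|`.** -/
theorem par_PSp {F : Type*} [Field F] [Finite F] {m : ℕ} (hm : 1 ≤ m) {p : ℕ}
    [Fact p.Prime] [CharP F p] : ParT p (CoxeterMatrix.B m) ⟨m - 1, by omega⟩ (Nat.card F) (PSp m F) := by
  have := finite_adm (SpIdent.frame m F)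
  refine par_C (KInstSp.model m F) (AmbT.of_amb amb_Sp p) (p0 := SpIdent.adm 1) one_ne_zero hm ?_
  refine Nat.card_le_card_of_injective (fun a : (SpIdent.frame m F).Adm => a.c) ?_
  intro a b e
  have h1 : a.w = 0 := a.ok
  have h2 : b.w = 0 := b.ok
  exact Frame.Adm.ext (h1.trans h2.symm) e

end Cfsg.Agent.Omega.ML.Ex.Typ

end

section


/-!
# The number of involutions of the last root group, diagram `B_m` (helper218, for helper221)

`u ∈ X (α_m)` with `u * u = 1`: at most `q` of them, for the models of `PSp_{2m}(q)` and `PSU_N(q)`, `N = 2m, 2m + 1`,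
`q` even (for `N = 2m + 1` the root group has order `q ^ 3`, and its involutions are the central ones).

* `eq_one_of_Z` : `φ (Z p) = 1` implies `p = 1`;
* `iv_le` : the general statement, for a model in characteristic two;
* **`iv_Sp`**, **`iv_U`** : the two families.
-/

set_option autoImplicit false
set_option linter.unusedSectionVars false

namespace Cfsg.Agent.Omega.ML.Ex.Lie2.SemiDat

open Cfsg
open CoxeterSystem Cfsg.Agent.ChevalleyStructure.CoxeterGeom Cfsg.Agent.Tits.Roots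
  Cfsg.Agent.Nodes.Comb Cfsg.Agent.Nodes.Reps Cfsg.Agent.Nodes.BNOf
  Cfsg.Agent.Nodes.RGDLib Cfsg.Agent.Nodes.TypeC
open Cfsg.Agent.Nodes Cfsg.Agent.Nodes.WittAll Cfsg.Agent.Nodes.WittU Cfsg.Agent.Nodes.WittInst
  Cfsg.Agent.Nodes.WittRoot Cfsg.Agent.Nodes.WittRGD
  Cfsg.Agent.TitsThree Cfsg.Agent.TitsThree.Siegel Cfsg.Agent.TitsThree.SiegelGen
  Cfsg.Agent.TitsThree.WittFrame Cfsg.Agent.TitsThree.WBridge Cfsg.Agent.TitsThree.WittWeyl
  Cfsg.Agent.TitsThree.FrameCN Cfsg.Agent.TitsThree.LineBorel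

/-- the number of elements `u` of `R` with `u * u = 1` -/
noncomputable def iv {Y : Type*} [Group Y] (R : Subgroup Y) : ℕ := Nat.card {u : Y // u ∈ R ∧ u * u = 1}

theorem iv_map {Y Z : Type*} [Group Y] [Group Z] (f : Y →* Z) (hf : Function.Injective f) (R : Subgroup Y) :
    iv (R.map f) = iv R := by
  unfold iv
  symm
  refine Nat.card_congr (Equiv.ofBijective
    (fun u : {u : Y // u ∈ R ∧ u * u = 1} => (⟨f u.1, ⟨u.1, u.2.1, rfl⟩, by rw [← map_mul, u.2.2, map_one]⟩ :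
      {u : Z // u ∈ R.map f ∧ u * u = 1})) ⟨?_, ?_⟩)
  · intro a b hab
    exact Subtype.ext (hf (congrArg (fun z => (z.1 : Z)) hab))
  · rintro ⟨_, ⟨u, hu, rfl⟩, h⟩
    refine ⟨⟨u, hu, hf ?_⟩, rfl⟩
    rw [map_mul, h, map_one]

section general

variable {F : Type*} [Field F] {V : Type*} [AddCommGroup V] [Module F V] {H : HForm F V} {n : ℕ}
  {Fr : Frame H (Fin n)} {K : Type*} [Group K] (M : Model Fr K)

/-- `φ` is injective on the root groups -/
theorem eq_one_of_Z {x : Fin n × Bool} {p : Fr.Adm} (hp : M.φ ⟨Fr.Z x p, M.hZ x p⟩ = 1) : p = 1 := by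
  obtain ⟨a, ha⟩ := M.ker (Fr.b (neg x)) _ hp
  have h1 : Fr.b (neg x) + Fr.η x • p.w + (p.c * Fr.η x) • Fr.b x = a • Fr.b (neg x) := by
    rw [← Z_apply_neg]; exact ha
  -- pairing with `b x`
  have h2 : Fr.η x = a * Fr.η x := by
    have h3 := congrArg (fun v => H.h v (Fr.b x)) h1
    simp only [H.add_left, H.smul_left, Fr.hb_neg_self, Fr.h0' x (Fr.ok_mem p.ok), Fr.hb_self, mul_zero, add_zero] at h3
    exact h3
  have ha1 : a = 1 := by
    have h3 : (1 - a) * Fr.η x = 0 := by rw [sub_mul, one_mul, ← h2, sub_self]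
    rcases mul_eq_zero.1 h3 with h4 | h4
    · exact (sub_eq_zero.1 h4).symm
    · exact absurd h4 (Fr.η_ne x)
  rw [ha1, one_smul, add_assoc, add_eq_left] at h1
  -- pairing with `b (neg x)`
  have hc : p.c = 0 := by
    have h3 := congrArg (fun v => H.h v (Fr.b (neg x))) h1
    simp only [H.add_left, H.smul_left, Fr.h0' (neg x) (Fr.ok_mem p.ok), mul_zero, zero_add, H.zero_left,
      Fr.hb_self_neg] at h3
    rcases mul_eq_zero.1 h3 with h4 | h4
    · rcases mul_eq_zero.1 h4 with h5 | h5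
      · exact h5
      · exact absurd h5 (Fr.η_ne x)
    · exact absurd h4 (Fr.η_ne (neg x))
  have hw : p.w = 0 := by
    rw [hc, zero_mul, zero_smul, add_zero] at h1
    exact (smul_eq_zero.1 h1).resolve_left (Fr.η_ne x)
  exact Frame.Adm.ext hw hc

/-- **The number of involutions of the last root group**, characteristic two, anisotropic `V0`. -/
theorem iv_le [CharP F 2] [Finite F] (hn : 0 < n) (hV : ∀ w ∈ Fr.V0, H.h w w = 0 → w = 0) {q : ℕ}
    (hq : Nat.card {c : F // Fr.ok 0 c} ≤ q) :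
    Nat.card {u : K // u ∈ WittModel.X M (sr ⟨n - 1, by omega⟩) ∧ u * u = 1} ≤ q := by
  have hnx : nx (⟨n - 1, by omega⟩ : Fin n) = (⟨n - 1, by omega⟩, true) := by
    unfold nx; rw [dif_neg (by simp; omega)]
  have hmem : ∀ u : K, u ∈ WittModel.X M (sr ⟨n - 1, by omega⟩) → u * u = 1 →
      ∃ c : F, ∃ hc : Fr.ok 0 c, M.φ ⟨Fr.Z (⟨n - 1, by omega⟩, true) ⟨0, c, hc⟩, M.hZ _ _⟩ = u := by
    rintro _ ⟨⟨g, hgI⟩, hg, rfl⟩ hu
    have h1 : g ∈ rg Fr (sr ⟨n - 1, by omega⟩) := hg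
    rw [rg_sr, hnx, PG_self] at h1
    obtain ⟨a, rfl⟩ := h1
    have h2 : a * a = 1 := by
      apply eq_one_of_Z M (x := (⟨n - 1, by omega⟩, true))
      rw [← hu, ← map_mul]
      congr 1
      exact Subtype.ext (Fr.Z_mul _ a a)
    have h3 : H.h a.w a.w = 0 := by
      have h4 := congrArg Frame.Adm.c h2
      rw [Frame.Adm.mul_c, Frame.Adm.one_c, CharTwo.add_self_eq_zero, zero_sub, neg_eq_zero] at h4
      exact (mul_eq_zero.1 h4).resolve_left (inv_ne_zero H.ε_ne)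
    have h4 : a.w = 0 := hV _ (Fr.ok_mem a.ok) h3
    have h5 : Fr.ok 0 a.c := by rw [← h4]; exact a.ok
    refine ⟨a.c, h5, ?_⟩
    congr 1
    apply Subtype.ext
    change Fr.Z (⟨n - 1, by omega⟩, true) ⟨0, a.c, h5⟩ = Fr.Z (⟨n - 1, by omega⟩, true) a
    congr 1
    exact Frame.Adm.ext h4.symm rfl
  choose! f hf hf' using hmem
  refine le_trans (Nat.card_le_card_of_injective
    (fun u : {u : K // u ∈ WittModel.X M (sr ⟨n - 1, by omega⟩) ∧ u * u = 1} =>
      (⟨f u.1, hf u.1 u.2.1 u.2.2⟩ : {c : F // Fr.ok 0 c})) ?_) hq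
  intro u v huv
  have e : f u.1 = f v.1 := congrArg (fun z => (z.1 : F)) huv
  have h1 := hf' u.1 u.2.1 u.2.2
  have h2 := hf' v.1 v.2.1 v.2.2
  apply Subtype.ext
  rw [← h1, ← h2]
  congr 1
  apply Subtype.ext
  change Fr.Z _ _ = Fr.Z _ _
  congr 1
  exact Frame.Adm.ext rfl e

end general

/-- **`PSp_{2m}(F)`** -/
theorem iv_Sp {F : Type*} [Field F] [Finite F] [CharP F 2] {m : ℕ} (hm : 0 < m) :
    Nat.card {u : PSp m F // u ∈ WittModel.X (KInstSp.model m F) (sr ⟨m - 1, by omega⟩) ∧ u * u = 1} ≤ Nat.card F :=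
  iv_le (KInstSp.model m F) hm (fun _ hw _ => (Submodule.mem_bot F).1 hw)
    (Nat.card_le_card_of_injective (fun c => c.1) Subtype.val_injective)

section unitary

open Cfsg.Agent.LieClassical.HermBasic Cfsg.Agent.TitsThree.KSideU

variable {F : Type*} [Field F] [Fintype F] {q N : ℕ} (hF : Fintype.card F = q ^ 2)

/-- **`PSU_N(q)`** -/
theorem iv_U [CharP F 2] (hN : 3 ≤ N) {m : ℕ} (hm : 0 < m) (W : WFrame (PU hF N) m) :
    Nat.card {u : PSU N F q // u ∈ WittModel.X (KInstU.model hF hN W) (sr ⟨m - 1, by omega⟩) ∧ u * u = 1} ≤ q :=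
  iv_le (KInstU.model hF hN W) hm (fun w hw h => W.aniso w hw ((sing_iff hF).2 h)) (Typ.card_ok_le hF W 0)

end unitary

end Cfsg.Agent.Omega.ML.Ex.Lie2.SemiDat

end
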